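import Cfsg.Agent.H190.Spr.TorE6
import Cfsg.Agent.H190.Cov.Rad8c
import Cfsg.Agent.H682.TE6.Two
import Cfsg.Agent.H325.IsoFree

/-!
# Normal `t`-subgroups of the overgroups of the torus of class 12 of `E₆(q)` (after helper682; helper190, for S3938)

* `commute_y6` : they commute with the element `y` of order `Φ₁₂(q)`, unless `(q, t) = (2, 3), (3, 2)`;
* `commute_w6` : they commute with `w`.
-/

set_option autoImplicit false

namespace Cfsg.Agent.H190.Spr

open Subgroup Cfsg Cfsg.Agent.OrdDiv Cfsg.Agent.H436 Cfsg.Agent.H56.Exc Cfsg.Agent.H563.KG Cfsg.Agent.H190.Odd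
  Cfsg.Agent.H190.Cov Cfsg.Agent.H325.Loc Cfsg.Agent.H325.IsoExc Cfsg.Agent.H290.ElReg Cfsg.Agent.H290.ElTab
  Cfsg.Agent.H902 Cfsg.Agent.H682.TE6

theorem ph2 : Ph 12 2 = 13 := by decide +kernel

theorem hN6 {K : Type*} [Group K] [Finite K] {q : ℕ} (hd : Nat.card K ∣ OL .E6 q) (hq2 : 2 ≤ q) {t : ℕ}
    (ht : t.Prime) (htq : ¬ t ∣ q) (htn : ¬ t ∣ Ph 12 q) (h2 : ¬ (q = 2 ∧ t = 3)) (h3 : ¬ (q = 3 ∧ t = 2)) :
    Fintype.card (Fin 78) < Ph 12 q ∨
      ((Ph 12 q).Prime ∧ ∀ k, 0 < k → t ^ k ∣ Nat.card K → ¬ Ph 12 q ∣ t ^ k - 1) := by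
  rcases eq_or_lt_of_le hq2 with rfl | hq3
  · right
    rw [ph2] at htn ⊢
    refine ⟨by norm_num, fun k hk hkK => ?_⟩
    have h6 : t ∣ OL .E6 2 := (dvd_pow_self t hk.ne').trans (hkK.trans hd)
    rw [fe2_eq] at h6
    obtain ⟨y, hy, hty⟩ := prime_mem ht fe2 fe2_prime h6
    simp only [fe2, List.mem_cons, List.not_mem_nil, or_false] at hy
    have key : ∀ K', ¬ t ^ (K' + 1) ∣ OL .E6 2 → (∀ k ≤ K', 0 < k → ¬ 13 ∣ t ^ k - 1) → ¬ 13 ∣ t ^ k - 1 :=
      fun K' h1 h2 => h2 k (pow_bound h1 (hkK.trans hd)) hk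
    rcases hy with rfl | rfl | rfl | rfl | rfl | rfl | rfl | rfl <;> simp only at hty <;> subst hty
    · exact absurd dvd_rfl htq
    · exact absurd ⟨rfl, rfl⟩ h2
    · exact key 2 (by decide +kernel) fun k hk hk0 => by interval_cases k <;> norm_num
    · exact key 3 (by decide +kernel) fun k hk hk0 => by interval_cases k <;> norm_num
    · exact absurd dvd_rfl htn
    · exact key 1 (by decide +kernel) fun k hk hk0 => by interval_cases k <;> norm_num
    · exact key 1 (by decide +kernel) fun k hk hk0 => by interval_cases k <;> norm_num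
    · exact key 1 (by decide +kernel) fun k hk hk0 => by interval_cases k <;> norm_num
  rcases eq_or_lt_of_le (show 3 ≤ q from hq3) with rfl | hq4
  · right
    rw [ph3] at htn ⊢
    refine ⟨by norm_num, fun k hk hkK => ?_⟩
    have h6 : t ∣ OL .E6 3 := (dvd_pow_self t hk.ne').trans (hkK.trans hd)
    rw [fe3_eq] at h6
    obtain ⟨y, hy, hty⟩ := prime_mem ht fe3 fe3_prime h6
    simp only [fe3, List.mem_cons, List.not_mem_nil, or_false] at hy
    have key : ∀ K', ¬ t ^ (K' + 1) ∣ OL .E6 3 → (∀ k ≤ K', 0 < k → ¬ 73 ∣ t ^ k - 1) → ¬ 73 ∣ t ^ k - 1 :=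
      fun K' h1 h2 => h2 k (pow_bound h1 (hkK.trans hd)) hk
    rcases hy with rfl | rfl | rfl | rfl | rfl | rfl | rfl | rfl | rfl <;> simp only at hty <;> subst hty
    · exact absurd ⟨rfl, rfl⟩ h3
    · exact absurd dvd_rfl htq
    · exact key 2 (by decide +kernel) fun k hk hk0 => by interval_cases k <;> norm_num
    · exact key 2 (by decide +kernel) fun k hk hk0 => by interval_cases k <;> norm_num
    · exact key 2 (by decide +kernel) fun k hk hk0 => by interval_cases k <;> norm_num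
    · exact key 3 (by decide +kernel) fun k hk hk0 => by interval_cases k <;> norm_num
    · exact key 1 (by decide +kernel) fun k hk hk0 => by interval_cases k <;> norm_num
    · exact absurd dvd_rfl htn
    · exact key 1 (by decide +kernel) fun k hk hk0 => by interval_cases k <;> norm_num
  · left
    rw [← ncl12_eq, Fintype.card_fin]
    exact gt12 hq4

theorem ph_gt_one {q : ℕ} (hq2 : 2 ≤ q) : 1 < Ph 12 q := by
  have h5 : 2 ^ 2 ≤ q ^ 2 := Nat.pow_le_pow_left hq2 2
  have h6 : q ^ 2 * 4 ≤ q ^ 4 := by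
    have : q ^ 4 = q ^ 2 * q ^ 2 := by ring
    rw [this]
    exact Nat.mul_le_mul_left _ h5
  simp only [Ph]
  omega

section

variable {F : Type} [Field F] [Fintype F] {p f : ℕ}

/-- **Normal `t`-subgroups.** -/
theorem commute_y6 (hp : p.Prime) (hf : 1 ≤ f) (hK : Fintype.card F = p ^ f)
    (hdT : Nat.card ↥(Lie.chevE6.group F) ∣ OL .E6 (p ^ f))
    {K : Subgroup ↥(Lie.chevE6.group F)} {y : K} (hy : orderOf y = Ph 12 (p ^ f)) {t : ℕ} (ht : t.Prime)
    {R : Subgroup K} [hRn : R.Normal] (hRt : IsPGroup t R) (htn : ¬ t ∣ Ph 12 (p ^ f))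
    (h2 : ¬ (p ^ f = 2 ∧ t = 3)) (h3 : ¬ (p ^ f = 3 ∧ t = 2)) : ∀ u ∈ R, Commute u y := by
  have hpF := Fact.mk hp
  have hfin : Finite ↥(Lie.chevE6.group F) := inferInstance
  have hch : CharP F p := charP_of_card_eq_prime_pow hK
  have hq2 : 2 ≤ p ^ f := hp.two_le.trans (Nat.le_self_pow (by omega) p)
  have hq1 : 1 ≤ p ^ f := by omega
  have hn1 : 1 < Ph 12 (p ^ f) := ph_gt_one hq2
  have hbig : ∀ r, r.Prime → r ∣ Ph 12 (p ^ f) → Big K r (Ph 12 (p ^ f) * k3 (p ^ f)) 12 := fun r hr hrn =>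
    (bigE hK (prim_of_ph hq1 hr hrn)).subgroup K
  obtain ⟨τ, hτ⟩ := fth_E6 (F := F)
  have hτK : Function.Injective (τ.comp K.subtype) := hτ.comp K.subtype_injective
  have hdK : Nat.card K ∣ OL .E6 (p ^ f) := (Subgroup.card_subgroup_dvd_card K).trans hdT
  by_cases htp : t = p
  · subst htp
    obtain ⟨r, hr⟩ := exists_prim (q := t ^ f) (e := 12) hq2 (by norm_num) (by omega)
    have hpiso : PIso t r ↥(Lie.chevE6.group F) := Cfsg.Agent.H325.IsoFree.piso_E6_12 (by rw [hK]; exact hr)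
    suffices hb : R = ⊥ by
      intro u hu
      rw [hb, Subgroup.mem_bot] at hu
      rw [hu]
      exact Commute.one_left y
    by_contra hne
    have h3 : R.map K.subtype ≠ ⊥ := fun h => hne ((Subgroup.map_eq_bot_iff_of_injective _ K.subtype_injective).1 h)
    refine hpiso.of_le (Q := R.map K.subtype) (H := K) (hRt.map _) h3 ?_ ?_
    · rintro x hx _ ⟨b, hb, rfl⟩
      exact ⟨_, hRn.conj_mem b hb ⟨x, hx⟩, rfl⟩
    · have h5 : orderOf y ∣ Nat.card K := orderOf_dvd_natCard y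
      rw [hy] at h5
      exact (dvd_ph hq1 hr).trans h5
  have htq : ¬ t ∣ p ^ f := fun h => htp ((Nat.prime_dvd_prime_iff_eq ht hp).1 (ht.dvd_of_dvd_pow h))
  have hN := hN6 hdK hq2 ht htq htn h2 h3
  by_cases htk : t ∣ k3 (p ^ f)
  · have h7 := seven_le3 hq1 ht htk
    have htF := Fact.mk ht
    obtain ⟨P, hP⟩ := (hRt.map K.subtype).exists_le_sylow
    have hPc := sylow_e6 hK h7 htq P
    refine commute_abelian hτK hp hbig hy ht htp hRt (fun a ha b hb => ?_) htn hN
    have h3 := hPc.is_comm.comm ⟨_, hP ⟨a, ha, rfl⟩⟩ ⟨_, hP ⟨b, hb, rfl⟩⟩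
    have h4 : (a : ↥(Lie.chevE6.group F)) * b = b * a := congrArg Subtype.val h3
    exact Subtype.ext h4
  · have htm : ¬ t ∣ Ph 12 (p ^ f) * k3 (p ^ f) := fun h => by
      rcases ht.dvd_mul.1 h with h | h
      · exact htn h
      · exact htk h
    have hb := eq_bot_of_free hτK hp hn1 hbig hy ht htp hRt htn htm hN
    intro u hu
    rw [hb, Subgroup.mem_bot] at hu
    rw [hu]
    exact Commute.one_left y

theorem three_ind {k j : ℕ} (hk : k ≤ 6) (hj : j ≤ k) (h1 : 3 ^ k ≡ 1 [MOD 13]) (h2 : 3 ^ j ≡ 1 [MOD 13])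
    (h3 : 3 ^ k ≡ 3 ^ j [MOD 7]) : j = k ∨ j = 0 := by
  unfold Nat.ModEq at h1 h2 h3
  interval_cases k <;> interval_cases j <;> first | (left; rfl) | (right; rfl) | (exfalso; revert h1 h2 h3; decide)

theorem fix_of {K : Type*} [Group K] [Finite K] {r m e : ℕ} (h : Big K r m e) {y : K} (hy : orderOf y = r) {t : ℕ}
    (htm : Nat.Coprime t m) {R : Subgroup K} (hR : IsPGroup t R) : ∀ a ∈ R, Commute a y → a = 1 := by
  intro a ha hay
  have h1 := h.card y hy
  have h2 : a ∈ centralizer ({y} : Set K) := mem_centralizer_singleton_iff.2 hay.eq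
  have h3 : orderOf a ∣ m := by
    have h4 := orderOf_dvd_natCard (⟨a, h2⟩ : centralizer ({y} : Set K))
    rw [Subgroup.orderOf_mk] at h4
    exact h4.trans h1
  obtain ⟨k, hk2⟩ := hR ⟨a, ha⟩
  have h4 : a ^ t ^ k = 1 := congrArg Subtype.val hk2
  have h5 := orderOf_dvd_of_pow_eq_one h4
  have h6 : Nat.Coprime (t ^ k) m := Nat.Coprime.pow_left k htm
  have h7 := Nat.dvd_gcd h5 h3
  rw [h6, Nat.dvd_one] at h7
  exact orderOf_eq_one_iff.1 h7

/-- **`q = 2`, the normal `3`-subgroups commute with `w`.** -/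
theorem commute_w_two {q : ℕ} (hq2 : q = 2) (hK : Fintype.card F = q)
    (hdT : Nat.card ↥(Lie.chevE6.group F) ∣ OL .E6 q) {K : Subgroup ↥(Lie.chevE6.group F)} {y w : K}
    (hy : orderOf y = Ph 12 q) (hw : orderOf w = 7) (hyw : Commute y w) {R : Subgroup K} (hRn : R.Normal)
    (hR : IsPGroup 3 R) : ∀ u ∈ R, Commute u w := by
  subst hq2
  have := Fact.mk Nat.prime_two
  have hfin : Finite ↥(Lie.chevE6.group F) := inferInstance
  have hch : CharP F 2 := charP_of_card_eq_prime_pow (f := 1) hK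
  rw [ph2] at hy
  have h7 : ¬ 3 ^ 7 ∣ Nat.card K := fun h => by
    have h8 : ¬ 3 ^ 7 ∣ OL .E6 2 := by decide +kernel
    exact h8 (h.trans ((Subgroup.card_subgroup_dvd_card K).trans hdT))
  have hP : Prim 2 12 13 := prim_of_ph (q := 2) (by norm_num) (by norm_num) (by rw [ph2])
  have hbig : Big K 13 (Ph 12 2 * k3 2) 12 := (bigE hK hP).subgroup K
  have hk : Ph 12 2 * k3 2 = 91 := by decide +kernel
  rw [hk] at hbig
  obtain ⟨τ, hτ⟩ := fth_E6 (F := F)
  have hτK : Function.Injective (τ.comp K.subtype) := hτ.comp K.subtype_injective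
  refine commute_w' hτK Nat.prime_two (by norm_num) hy (by norm_num) hw hyw (by norm_num) Nat.prime_three (by norm_num)
    (by norm_num) (by norm_num) hR (fix_of hbig hy (by norm_num) hR) (by rw [Fintype.card_fin]; norm_num) ?_
  intro k j hk1 hjk h1 h2 h3
  refine three_ind ?_ hjk h1 h2 h3
  by_contra hcon
  apply h7
  refine (pow_dvd_pow 3 (by omega : 7 ≤ k)).trans ?_
  rw [← hk1]
  exact Subgroup.card_subgroup_dvd_card R

/-- **`q = 3`, the normal `2`-subgroups commute with `w`.** -/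
theorem commute_w_three6 {q : ℕ} (hq3 : q = 3) (hK : Fintype.card F = q)
    (hdT : Nat.card ↥(Lie.chevE6.group F) ∣ OL .E6 q) {K : Subgroup ↥(Lie.chevE6.group F)} {y w : K}
    (hy : orderOf y = Ph 12 q) (hw : orderOf w = 13) (hyw : Commute y w) {R : Subgroup K} (hRn : R.Normal)
    (hR : IsPGroup 2 R) : ∀ u ∈ R, Commute u w := by
  subst hq3
  have := Fact.mk Nat.prime_three
  have hfin : Finite ↥(Lie.chevE6.group F) := inferInstance
  have hch : CharP F 3 := charP_of_card_eq_prime_pow (f := 1) hK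
  rw [ph3] at hy
  have h7 : ¬ 2 ^ 18 ∣ Nat.card K := fun h => by
    have h8 : ¬ 2 ^ 18 ∣ OL .E6 3 := by decide +kernel
    exact h8 (h.trans ((Subgroup.card_subgroup_dvd_card K).trans hdT))
  have hP : Prim 3 12 73 := prim_of_ph (q := 3) (by norm_num) (by norm_num) (by rw [ph3])
  have hbig : Big K 73 (Ph 12 3 * k3 3) 12 := (bigE hK hP).subgroup K
  have hk : Ph 12 3 * k3 3 = 949 := by decide +kernel
  rw [hk] at hbig
  obtain ⟨τ, hτ⟩ := fth_E6 (F := F)
  have hτK : Function.Injective (τ.comp K.subtype) := hτ.comp K.subtype_injective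
  refine commute_w' hτK Nat.prime_three (by norm_num) hy (by norm_num) hw hyw (by norm_num) Nat.prime_two (by norm_num)
    (by norm_num) (by norm_num) hR (fix_of hbig hy (by norm_num) hR) (by rw [Fintype.card_fin]; norm_num) ?_
  intro k j hk1 hjk h1 h2 h3
  have h17 : k ≤ 17 := by
    by_contra hcon
    apply h7
    refine (pow_dvd_pow 2 (by omega : 18 ≤ k)).trans ?_
    rw [← hk1]
    exact Subgroup.card_subgroup_dvd_card R
  have h4 := nine_of (k := k) (by omega) h1
  have h5 := nine_of (k := j) (by omega) h2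
  omega

end

end Cfsg.Agent.H190.Spr
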