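import Cfsg.Agent.H934.OutB
import Cfsg.Agent.H436.Names
import Cfsg.Agent.S0815
import Cfsg.Agent.S2121
import Cfsg.Agent.S2122
import Cfsg.Agent.S2126
import Cfsg.Agent.S2128
import Cfsg.Agent.S2129

/-!
# Elements of prime order prime to the order of the outer automorphism group (helper190, for S3938)

* `mem_of_out` : if `S` is a normal subgroup with trivial centraliser, an element of prime order `w₀` not dividing
  `|Out S|` is in `S`;
* `out_psu`, `out_g2`, `out_f4`, `out_td4`, `out_sz`, `out_tf4` : `w₀` does not divide `|Out S|`.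
-/

set_option autoImplicit false

namespace Cfsg.Agent.H190.Spr

open Cfsg Cfsg.Agent.OrdDiv Cfsg.Agent.H436

theorem mem_of_out {A : Type*} [Group A] [Finite A] {S : Subgroup A} [hS : S.Normal]
    (hc : Subgroup.centralizer (S : Set A) = ⊥) {w : A} {w₀ : ℕ} (hw₀ : w₀.Prime) (hw : w ^ w₀ = 1)
    (h : ¬ w₀ ∣ Nat.card (Cfsg.Out S)) : w ∈ S := by
  set π : MulAut S →* MulAut S ⧸ (MulAut.conj : S →* MulAut S).range := QuotientGroup.mk' _ with hπ
  have h1 : (π (MulAut.conjNormal w)) ^ w₀ = 1 := by rw [← map_pow, ← map_pow, hw, map_one, map_one]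
  have h2 : orderOf (π (MulAut.conjNormal w)) ∣ w₀ := orderOf_dvd_of_pow_eq_one h1
  have h3 : π (MulAut.conjNormal w) = 1 := by
    rcases (Nat.dvd_prime hw₀).1 h2 with h4 | h4
    · exact orderOf_eq_one_iff.1 h4
    · exfalso
      apply h
      rw [← h4]
      exact orderOf_dvd_natCard _
  rw [hπ, QuotientGroup.mk'_apply, QuotientGroup.eq_one_iff] at h3
  obtain ⟨s, hs⟩ := h3
  have h5 : (s : A)⁻¹ * w ∈ Subgroup.centralizer (S : Set A) := by
    rw [Subgroup.mem_centralizer_iff]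
    intro t ht
    have h6 := congrArg Subtype.val (DFunLike.congr_fun hs ⟨t, ht⟩)
    rw [MulAut.conj_apply, MulAut.conjNormal_apply] at h6
    have h7 : (s : A) * t * (s : A)⁻¹ = w * t * w⁻¹ := h6
    have h8 : w * t = s * t * (s : A)⁻¹ * w := by rw [h7]; group
    calc t * ((s : A)⁻¹ * w) = (s : A)⁻¹ * (s * t * (s : A)⁻¹ * w) := by group
      _ = (s : A)⁻¹ * w * t := by rw [← h8]; group
  rw [hc, Subgroup.mem_bot] at h5
  have h6 : w = s := (inv_mul_eq_one.1 h5).symm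
  rw [h6]
  exact s.2

section num

variable {w a b : ℕ}

theorem nd (hw : w.Prime) (ha : ¬ w ∣ a) (hb : ¬ w ∣ b) : ¬ w ∣ a * b := fun h => (hw.dvd_mul.1 h).elim ha hb

theorem nd_lt (ha : 0 < a) (h : a < w) : ¬ w ∣ a := Nat.not_dvd_of_pos_of_lt ha h

end num

variable {S : Type} [Group S] {p f w n : ℕ}

theorem charP_of {F : Type} [Field F] [Fintype F] (hp : p.Prime) {k : ℕ} (h : Fintype.card F = p ^ k) : CharP F p := by
  have := Fact.mk hp
  exact charP_of_card_eq_prime_pow h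

/-- `PSU_n(p ^ f)` -/
theorem out_psu [Finite S] [IsSimpleGroup S] (hna : ¬ IsMulCommutative S) (h : IsNamed (.psu n (p ^ f)) S)
    (hp : p.Prime) (hf : 1 ≤ f) (hw : w.Prime) (hn : n < w) (h5 : 3 ≤ w) (hfw : ¬ w ∣ f) :
    ¬ w ∣ Nat.card (Cfsg.Out S) := by
  obtain ⟨F, _, _, hF, ⟨e⟩⟩ := h.real
  obtain ⟨hn3, h32, -⟩ := h.cond
  have := Fact.mk hp
  have hnt : Nontrivial (PSU n F (p ^ f)) := e.symm.toEquiv.nontrivial
  have hs : IsSimpleGroup (PSU n F (p ^ f)) := IsSimpleGroup.isSimpleGroup_of_surjective e.toMonoidHom e.surjective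
  have hna' : ¬ IsMulCommutative (PSU n F (p ^ f)) := fun hc => hna ⟨⟨fun a b => e.injective (by
    rw [map_mul, map_mul]; exact hc.is_comm.comm _ _)⟩⟩
  have hfin : Finite (PSU n F (p ^ f)) := inferInstance
  rw [H934.OutB.card_out_congr e, H934.OutB.card_out_of_aut hna' (S0815.result p f hf rfl hF n hn3 h32)]
  refine nd hw ?_ (nd hw (nd_lt (by norm_num) (by omega)) (hfw))
  intro h1
  have h2 := Nat.le_of_dvd (by omega) (h1.trans (Nat.gcd_dvd_left _ _))
  omega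

theorem out_g2 (h : IsNamed (.g2 (p ^ f)) S) (hp : p.Prime) (hf : 1 ≤ f) (hw : w.Prime) (h5 : 3 ≤ w) (hfw : ¬ w ∣ f) :
    ¬ w ∣ Nat.card (Cfsg.Out S) := by
  obtain ⟨F, _, _, hF, ⟨e⟩⟩ := h.real
  have := Fact.mk hp
  have := charP_of hp hF
  rw [H934.OutB.card_out_congr e, S2121.result p f hF h.cond.1]
  split_ifs
  · exact nd hw (nd_lt (by norm_num) (by omega)) (hfw)
  · exact hfw

theorem out_f4 (h : IsNamed (.f4 (p ^ f)) S) (hp : p.Prime) (hf : 1 ≤ f) (hw : w.Prime) (h5 : 3 ≤ w) (hfw : ¬ w ∣ f) :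
    ¬ w ∣ Nat.card (Cfsg.Out S) := by
  obtain ⟨F, _, _, hF, ⟨e⟩⟩ := h.real
  have := Fact.mk hp
  have := charP_of hp hF
  rw [H934.OutB.card_out_congr e, S2122.result p f hF]
  refine nd hw ?_ (hfw)
  intro h1
  have h2 := Nat.le_of_dvd (by norm_num) (h1.trans (Nat.gcd_dvd_left _ _))
  omega

theorem out_td4 (h : IsNamed (.td4 (p ^ f)) S) (hp : p.Prime) (hf : 1 ≤ f) (hw : w.Prime) (h5 : 4 ≤ w) (hfw : ¬ w ∣ f) :
    ¬ w ∣ Nat.card (Cfsg.Out S) := by
  obtain ⟨F, _, _, hF, ⟨e⟩⟩ := h.real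
  have := Fact.mk hp
  have hF' : Fintype.card F = p ^ (3 * f) := by rw [hF, ← pow_mul, mul_comm]
  have := charP_of hp hF'
  rw [H934.OutB.card_out_congr e, S2129.result p f hF' hf]
  exact nd hw (nd_lt (by norm_num) (by omega)) (hfw)

theorem out_sz (h : IsNamed (.sz (2 ^ f)) S) (hfw : ¬ w ∣ f) :
    ¬ w ∣ Nat.card (Cfsg.Out S) := by
  obtain ⟨F, _, _, m, hm, hF, hm', ⟨e⟩⟩ := h.real
  have hf : f = 2 * m + 1 := Nat.pow_right_injective le_rfl hm'
  rw [H934.OutB.card_out_congr e, S2126.result hm (hF.trans hm'), ← hf]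
  exact hfw

theorem out_tf4 (h : IsNamed (.tf4 (2 ^ f)) S) (hfw : ¬ w ∣ f) :
    ¬ w ∣ Nat.card (Cfsg.Out S) := by
  obtain ⟨F, _, _, m, hm, hF, hm', ⟨e⟩⟩ := h.real
  have hf : f = 2 * m + 1 := Nat.pow_right_injective le_rfl hm'
  rw [H934.OutB.card_out_congr e, S2128.result hm (hF.trans hm'), ← hf]
  exact hfw

end Cfsg.Agent.H190.Spr
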