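import Cfsg.Agent.H190.Spr.OutMem
import Cfsg.Agent.H290.Wei.CharOne
import Cfsg.Agent.H290.Wei.TopElt
import Cfsg.Agent.H682.TE6.Kill
import Cfsg.Agent.S2238
import Cfsg.Agent.OddCyclic.ClaimC.SzIso

/-!
# Names of the characteristic of `E₆(q)`, the primes of class 12 (helper190, for S3938)

`eq_e6` : `S` is a normal simple subgroup of `A` with trivial centralizer, `S` is of Lie type in characteristic `p`,
the primitive primes of class 12 are big in `S`, and an element of `A` of order `t`, `t` a large primitive prime of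
class 3, commutes with an element of order `r` of `S`.  Then `S` is named `E₆(q)`.
-/

set_option autoImplicit false

namespace Cfsg.Agent.H190.Spr

open Subgroup Cfsg Cfsg.Agent.OrdDiv Cfsg.Agent.H436 Cfsg.Agent.H915.GN Cfsg.Agent.H264.GN Cfsg.Agent.H264.FKS
  Cfsg.Agent.H56.Exc Cfsg.Agent.H563.KG Cfsg.Agent.H290.ElReg Cfsg.Agent.H290.Wei Cfsg.Agent.H682.TE6

section

variable {q s : ℕ}

theorem prim_unique {e e' : ℕ} (h : Prim q e s) (h' : Prim q e' s) : e = e' :=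
  Nat.dvd_antisymm ((h.dvd_iff e').1 (h'.dvd dvd_rfl)) ((h'.dvd_iff e).1 (h.dvd dvd_rfl))

/-- the primes of class 4 and 6 do not divide `Φ₁₂(q) Φ₃(q)` -/
theorem not_dvd_mE (hq : 1 ≤ q) {e : ℕ} (hs : Prim q e s) (he : e = 4 ∨ e = 6) : ¬ s ∣ Ph 12 q * (q ^ 2 + q + 1) := by
  intro h
  rcases hs.prime.dvd_mul.1 h with h | h
  · rw [← Cfsg.Agent.H563.KG.ncl12_eq] at h
    have := prim_unique hs (Cfsg.Agent.H563.KG.prim_of_dvd c12 hq hs.prime h)
    omega
  · have h1 : s ∣ q ^ 3 - 1 := by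
      have e1 : q ^ 3 - 1 = (q - 1) * (q ^ 2 + q + 1) := by
        have : 1 ≤ q ^ 3 := Nat.one_le_pow _ _ hq
        zify [this, hq]
        ring
      rw [e1]
      exact h.mul_left _
    exact hs.not_dvd_sub (m := 3) (by rcases he with rfl | rfl <;> norm_num) h1

theorem not_dvd_ph3 (hq : 1 ≤ q) (hs : Prim q 3 s) : ¬ s ∣ Ph 12 q := by
  intro h
  rw [← Cfsg.Agent.H563.KG.ncl12_eq] at h
  have := prim_unique hs (Cfsg.Agent.H563.KG.prim_of_dvd c12 hq hs.prime h)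
  omega

theorem not_dvd_psu3' (hq : 1 ≤ q) (hs : Prim q 3 s) : ¬ s ∣ num (.psu 3 (q ^ 2)) := by
  intro h
  have h6 : num (.psu 3 (q ^ 2)) = (q ^ 2) ^ (3 * (3 - 1) / 2) *
      ((q ^ 2) ^ 1 + 1) * ((q ^ 2) ^ 2 - 1) * ((q ^ 2) ^ 3 + 1) := by
    show (q ^ 2) ^ (3 * (3 - 1) / 2) * (((q ^ 2) ^ 1 + 1) * (((q ^ 2) ^ 2 - 1) * (((q ^ 2) ^ 3 + 1) * 1))) = _
    ring
  rw [h6] at h
  simp only [← pow_mul] at h
  rcases hs.prime.dvd_mul.1 h with h | h
  · rcases hs.prime.dvd_mul.1 h with h | h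
    · rcases hs.prime.dvd_mul.1 h with h | h
      · exact hs.not_dvd_pow _ h
      · exact hs.not_dvd_add (by norm_num) h
    · exact hs.not_dvd_sub (m := 4) (by norm_num) h
  · exact not_dvd_add_of hq hs (by norm_num) (m := 6) (by norm_num) h

theorem not_dvd_psu4 (hq : 1 ≤ q) (hs : Prim q 3 s) : ¬ s ∣ num (.psu 4 (q ^ 2)) := by
  intro h
  have h6 : num (.psu 4 (q ^ 2)) = (q ^ 2) ^ (4 * (4 - 1) / 2) *
      ((q ^ 2) ^ 1 + 1) * ((q ^ 2) ^ 2 - 1) * ((q ^ 2) ^ 3 + 1) * ((q ^ 2) ^ 4 - 1) := by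
    show (q ^ 2) ^ (4 * (4 - 1) / 2) * (((q ^ 2) ^ 1 + 1) * (((q ^ 2) ^ 2 - 1) * (((q ^ 2) ^ 3 + 1) *
      (((q ^ 2) ^ 4 - 1) * 1)))) = _
    ring
  rw [h6] at h
  simp only [← pow_mul] at h
  rcases hs.prime.dvd_mul.1 h with h | h
  · rcases hs.prime.dvd_mul.1 h with h | h
    · rcases hs.prime.dvd_mul.1 h with h | h
      · rcases hs.prime.dvd_mul.1 h with h | h
        · exact hs.not_dvd_pow _ h
        · exact hs.not_dvd_add (by norm_num) h
      · exact hs.not_dvd_sub (m := 4) (by norm_num) h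
    · exact not_dvd_add_of hq hs (by norm_num) (m := 6) (by norm_num) h
  · exact hs.not_dvd_sub (m := 8) (by norm_num) h

end

/-- commuting elements of prime orders in the Suzuki groups -/
theorem kill_sz {S : Type} [Group S] {f r t : ℕ} (h : IsNamed (.sz (2 ^ f)) S) (hr : r.Prime) (ht : t.Prime) (hrt : r ≠ t)
    (hr2 : r ≠ 2) (ht2 : t ≠ 2) (hrd : ¬ r ∣ 2 ^ f - 1) (htd : t ∣ 2 ^ f - 1) {x w : S} (hx : orderOf x = r)
    (hw : orderOf w = t) (hxw : Commute x w) : False := by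
  obtain ⟨F, _, _, m, hm, hF, hm', ⟨e⟩⟩ := h.real
  have hf : f = 2 * m + 1 := Nat.pow_right_injective le_rfl hm'
  subst hf
  obtain ⟨i⟩ := Cfsg.Agent.OddCyclic.ClaimC.SzIso.iso hm hF
  have hfin : Finite ↥(Cfsg.Sz F m) := inferInstance
  have hz : orderOf (i.symm (e (x * w))) = r * t := by
    rw [MulEquiv.orderOf_eq, MulEquiv.orderOf_eq, hxw.orderOf_mul_eq_mul_orderOf_of_coprime, hx, hw]
    rw [hx, hw]
    exact (Nat.coprime_primes hr ht).2 hrt
  have hz1 : i.symm (e (x * w)) ≠ 1 := by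
    intro h1
    rw [h1, orderOf_one] at hz
    have h2 : r ∣ 1 := ⟨t, hz⟩
    exact hr.one_lt.ne' (Nat.dvd_one.1 h2)
  obtain ⟨U, ⟨hU, hzU⟩, -⟩ := Cfsg.Agent.S2238.result hm hF _ hz1
  rcases hU with ⟨P, rfl⟩ | ⟨-, hU⟩
  · obtain ⟨k, hk⟩ := P.isPGroup' ⟨_, hzU⟩
    have h1 : i.symm (e (x * w)) ^ 2 ^ k = 1 := congrArg Subtype.val hk
    have h2 := orderOf_dvd_of_pow_eq_one h1
    rw [hz] at h2
    exact hr2 ((Nat.prime_dvd_prime_iff_eq hr Nat.prime_two).1 (hr.dvd_of_dvd_pow ((Dvd.intro _ rfl).trans h2)))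
  · have hd : r * t ∣ Nat.card U := by
      rw [← hz]
      have := orderOf_dvd_natCard (⟨_, hzU⟩ : U)
      rwa [Subgroup.orderOf_mk] at this
    have h1 : 2 ^ (m + 1) ≤ 2 ^ (2 * m + 1) := Nat.pow_le_pow_right (by norm_num) (by omega)
    have key : ∀ n : ℕ, (2 ^ (2 * m + 1) + 2 ^ (m + 1) + 1 = n ∨ 2 ^ (2 * m + 1) - 2 ^ (m + 1) + 1 = n) → ¬ t ∣ n := by
      intro n hn htn
      have h2 : (2 ^ (2 * m + 1) + 2 ^ (m + 1) + 1) * (2 ^ (2 * m + 1) - 2 ^ (m + 1) + 1) =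
          (2 ^ (2 * m + 1)) ^ 2 + 1 := by
        zify [h1]
        ring
      have h3 : t ∣ (2 ^ (2 * m + 1)) ^ 2 + 1 := by
        rw [← h2]
        rcases hn with rfl | rfl
        · exact htn.mul_right _
        · exact htn.mul_left _
      have h4 : t ∣ (2 ^ (2 * m + 1)) ^ 2 - 1 := htd.trans (Nat.sub_one_dvd_pow_sub_one _ _)
      have h5 := Nat.dvd_sub h3 h4
      have h6 : 1 ≤ (2 ^ (2 * m + 1)) ^ 2 := Nat.one_le_pow _ _ (by positivity)
      have h7 : (2 ^ (2 * m + 1)) ^ 2 + 1 - ((2 ^ (2 * m + 1)) ^ 2 - 1) = 2 := by omega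
      rw [h7] at h5
      exact ht2 ((Nat.prime_dvd_prime_iff_eq ht Nat.prime_two).1 h5)
    rcases hU with h2 | h2 | h2
    · rw [h2] at hd
      exact hrd ((Dvd.intro _ rfl).trans hd)
    · exact key _ (Or.inl rfl) ((Dvd.intro_left _ rfl).trans (h2 ▸ hd))
    · rw [Set.mem_singleton_iff] at h2
      exact key _ (Or.inr rfl) ((Dvd.intro_left _ rfl).trans (h2 ▸ hd))

/-- **The name.** -/
theorem eq_e6 {A : Type} [Group A] [Finite A] {S : Subgroup A} [S.Normal] [IsSimpleGroup S]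
    (hna : ¬ IsMulCommutative S) (hc : centralizer (S : Set A) = ⊥)
    {p f : ℕ} (hp : p.Prime) (hf : 1 ≤ f) {g : Grp} (hg : IsNamed g S) (hch : HasChar p g)
    (hdvd : Nat.card S ∣ num (.e6 (p ^ f))) {e : ℕ}
    (hb : ∀ r, Prim (p ^ f) 12 r → Big S r (Ph 12 (p ^ f) * ((p ^ f) ^ 2 + p ^ f + 1)) e)
    (h8 : ∀ s, Prim (p ^ f) 8 s → ∀ x : S, orderOf x = s → Nat.card ↥(centralizer ({x} : Set S)) ∣
      ((p ^ f) ^ 4 + 1) * ((p ^ f) ^ 2 - 1))
    (hz : ∀ r, Prim (p ^ f) 12 r → r ∣ Nat.card S) {w x : A} {t r : ℕ} (ht : Prim (p ^ f) 3 t) (htf : f < t)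
    (ht5 : 5 ≤ t) (hw : orderOf w = t) (hr : Prim (p ^ f) 12 r) (hx : orderOf x = r) (hxS : x ∈ S)
    (hwx : Commute w x) : g = .e6 (p ^ f) := by
  have hpF := Fact.mk hp
  have hq2 : 2 ≤ p ^ f := hp.two_le.trans (Nat.le_self_pow (by omega) p)
  have hq1 : 1 ≤ p ^ f := by omega
  have htp := ht.prime
  have htph := not_dvd_ph3 hq1 ht
  obtain ⟨s4, h4⟩ := exists_prim (q := p ^ f) (e := 4) hq2 (by norm_num) (by omega)
  have hm4 := not_dvd_mE hq1 h4 (Or.inl rfl)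
  have hbr := hb r hr
  have hm12 : ((Ph 12 (p ^ f) : ℕ) : ℤ) = 1 - ((p ^ f : ℕ) : ℤ) ^ 2 + ((p ^ f : ℕ) : ℤ) ^ 4 := by
    rw [cast_Ph12 _ hq1]; ring
  have hcF : ¬ t ∣ f := nd_lt hf htf
  have hr4 : r ≠ s4 := by
    rintro rfl
    exact absurd (prim_unique hr h4) (by norm_num)
  have kw : ∀ {m' : ℕ}, ¬ t ∣ Nat.card (Cfsg.Out S) →
      (∀ z : S, orderOf z = r → Nat.card (centralizer ({z} : Set S)) ∣ m') → ¬ t ∣ m' → False :=
    fun h1 h2 h3 => kill_w hc htp hw hx hxS hwx h1 h2 h3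
  have kc : ¬ t ∣ Nat.card (Cfsg.Out S) → ¬ t ∣ num g → False := fun h1 h2 => by
    refine kw (m' := Nat.card S) h1 (fun z _ => Subgroup.card_subgroup_dvd_card _) fun h5 => h2 ?_
    rw [← hg.eq]
    exact h5.mul_left _
  have hout : ∀ {a : ℕ}, ¬ t ∣ a → ¬ t ∣ f * a := fun h => nd htp hcF h
  have h2t : ¬ t ∣ 2 := nd_lt (by norm_num) (by omega)
  have h3t : ¬ t ∣ 3 := nd_lt (by norm_num) (by omega)
  have h4t : ¬ t ∣ 4 := nd_lt (by norm_num) (by omega)
  obtain ⟨f₁, hf₁, h⟩ := charp_e6_12 hp hf hg.cond hch hg.eq hdvd (fun s hs => hz s (prim_pow hf hs))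
  rcases h with h | h | h | h | h | h | h | h | h | h | h | h | h | h | h | h | h | h | h | h
  · -- `L₂(q⁶)`
    obtain ⟨h, rfl⟩ := h
    exact absurd (kill_psl (j := 12) (a := 1) (b := 6) hr h4 (by norm_num) hbr hg (by omega) (by norm_num) (by norm_num)
      (by omega) (by norm_num) (by norm_num)) hm4
  · -- `L₃(q⁴)`
    exfalso
    obtain ⟨h, rfl⟩ := h
    obtain rfl : f₁ = 4 * f := by omega
    obtain ⟨s, hs⟩ := exists_prim (q := p ^ f) (e := 8) hq2 (by norm_num) (by omega)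
    exact Cfsg.Agent.H190.Cov.kill_psl3_big hp hf hg hs (h8 s hs)
  · -- `L₄(q³)`
    obtain ⟨h, rfl⟩ := h
    exact absurd (kill_psl (j := 12) (a := 1) (b := 3) hr h4 (by norm_num) hbr hg (by omega) (by norm_num) (by norm_num)
      (by omega) (by norm_num) (by norm_num)) hm4
  · -- `S₄(q³)`
    obtain ⟨h, rfl⟩ := h
    exact absurd (kill_psp (j := 6) hr h4 (by norm_num) (by norm_num) (by norm_num) hbr hg (by norm_num) (by omega)
      (by norm_num) (by norm_num) (by norm_num) (by norm_num)) hm4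
  · -- `S₆(q²)`
    obtain ⟨h, rfl⟩ := h
    exact absurd (kill_psp (j := 6) hr h4 (by norm_num) (by norm_num) (by norm_num) hbr hg (by norm_num) (by omega)
      (by norm_num) (by norm_num) (by norm_num) (by norm_num)) hm4
  · -- `S₈(q^{3/2})`
    obtain ⟨h, rfl⟩ := h
    exact absurd (kill_psp (j := 6) hr h4 (by norm_num) (by norm_num) (by norm_num) hbr hg (by norm_num) (by omega)
      (by norm_num) (by norm_num) (by norm_num) (by norm_num)) hm4
  · -- `O₇(q²)`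
    obtain ⟨h, rfl⟩ := h
    exact absurd (kill_oodd (j := 6) hr h4 (by norm_num) (by norm_num) (by norm_num) hbr hg (by omega)
      (by norm_num) (by norm_num) (by norm_num) (by norm_num)) hm4
  · -- `O₉(q^{3/2})`
    obtain ⟨h, rfl⟩ := h
    exact absurd (kill_oodd (j := 6) hr h4 (by norm_num) (by norm_num) (by norm_num) hbr hg (by omega)
      (by norm_num) (by norm_num) (by norm_num) (by norm_num)) hm4
  · -- `U₃(q²)`
    exfalso
    obtain ⟨h, rfl⟩ := h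
    obtain rfl : f₁ = f * 2 := by omega
    refine kc (out_psu hna hg hp (by omega) htp (by omega) (by omega) (hout h2t)) ?_
    rw [pow_mul]
    exact not_dvd_psu3' hq1 ht
  · -- `U₄(q²)`
    exfalso
    obtain ⟨h, rfl⟩ := h
    obtain rfl : f₁ = f * 2 := by omega
    refine kc (out_psu hna hg hp (by omega) htp (by omega) (by omega) (hout h2t)) ?_
    rw [pow_mul]
    exact not_dvd_psu4 hq1 ht
  · -- `O₈⁺(q²)`
    obtain ⟨h, rfl⟩ := h
    exact absurd (kill_oplus (j := 6) hr h4 (by norm_num) (by norm_num) (by norm_num) hbr hg (by omega)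
      (by norm_num) (by norm_num) (by norm_num) (by norm_num)) hm4
  · -- `O₁₀⁺(q^{3/2})`
    obtain ⟨h, rfl⟩ := h
    exact absurd (kill_oplus (j := 6) hr h4 (by norm_num) (by norm_num) (by norm_num) hbr hg (by omega)
      (by norm_num) (by norm_num) (by norm_num) (by norm_num)) hm4
  · -- `O₈⁻(q^{3/2})`
    obtain ⟨h, rfl⟩ := h
    exact absurd (kill_ominus (j := 6) hr h4 (by norm_num) (by norm_num) (by norm_num) hbr hg (by omega)
      (by norm_num) (by norm_num) (by norm_num) (by norm_num)) hm4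
  · -- `G₂(q²)`
    exfalso
    obtain ⟨h, rfl⟩ := h
    obtain rfl : f₁ = f * 2 := by omega
    have h9 := out_g2 hg hp (by omega) htp (by omega) (hout h2t)
    obtain ⟨F, _, _, hF, ⟨φ⟩⟩ := hg.real
    have hb2 : Big S r (Ph 12 (p ^ f)) 6 := (big_G2_6 (hF.trans (pow_mul p f 2)) (by rw [hm12]; push_cast; ring)
      (prim_sq hr)).congr φ.symm
    exact kw h9 hb2.card htph
  · -- `F₄(q)`
    exfalso
    obtain ⟨h, rfl⟩ := h
    obtain rfl : f₁ = f := by omega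
    have h9 := out_f4 hg hp hf htp (by omega) hcF
    obtain ⟨F, _, _, hF, ⟨φ⟩⟩ := hg.real
    have hb2 : Big S r (Ph 12 (p ^ f₁)) 12 := (big_F4_12 hF hm12 hr).congr φ.symm
    exact kw h9 hb2.card htph
  · -- `E₆(q)`
    obtain ⟨h, rfl⟩ := h
    obtain rfl : f₁ = f := by omega
    rfl
  · -- `³D₄(q)`
    exfalso
    obtain ⟨h, rfl⟩ := h
    obtain rfl : f₁ = f := by omega
    have h9 := out_td4 hg hp hf htp (by omega) hcF
    obtain ⟨F, _, _, hF, ⟨φ⟩⟩ := hg.real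
    have hqp : IsPrimePow (p ^ f₁) := hp.isPrimePow.pow (by omega)
    have hb2 : Big S r (Ph 12 (p ^ f₁)) 4 := (big_TD4_12 hqp hF hm12 hr).congr φ.symm
    exact kw h9 hb2.card htph
  · -- `Sz(q³)`
    exfalso
    obtain ⟨h, rfl⟩ := h
    obtain rfl : f₁ = f * 3 := by omega
    obtain ⟨m, hm, hqm⟩ := hg.cond
    obtain ⟨rfl, -⟩ := eq_of_pow hp Nat.prime_two (by omega) hqm
    have hwS : w ∈ S := mem_of_out hc htp (by rw [← hw, pow_orderOf_eq_one]) (out_sz hg (hout h3t))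
    have hd : t ∣ 2 ^ (f * 3) - 1 := by
      rw [pow_mul]
      exact ht.dvd dvd_rfl
    refine kill_sz hg hr.prime htp ?_ ?_ (by omega) ?_ hd (x := ⟨x, hxS⟩) (w := ⟨w, hwS⟩) ?_ ?_ ?_
    · rintro rfl
      exact absurd (prim_unique hr ht) (by norm_num)
    · rintro rfl
      exact ne_two hr (by norm_num) dvd_rfl
    · rw [pow_mul]
      exact hr.not_dvd_sub (by norm_num)
    · rw [Subgroup.orderOf_mk]; exact hx
    · rw [Subgroup.orderOf_mk]; exact hw
    · exact Subtype.ext hwx.symm.eq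
  · -- `Ree(q²)`
    exfalso
    obtain ⟨h, rfl⟩ := h
    obtain rfl : f₁ = f * 2 := by omega
    obtain ⟨m, hm, hm2⟩ := hg.cond
    obtain ⟨rfl, h3⟩ := eq_of_pow hp Nat.prime_three (by omega) hm2
    omega
  · -- `²F₄(q)`
    exfalso
    obtain ⟨h, rfl⟩ := h
    obtain rfl : f₁ = f := by omega
    have hg' := hg
    obtain ⟨F, _, _, m, hm, hF, hqm, ⟨φ⟩⟩ := hg'.real
    obtain ⟨hp2, hfm⟩ := eq_of_pow hp Nat.prime_two (by omega) hqm
    have hF' : Fintype.card F = 2 ^ (2 * m + 1) := by rw [hF, hqm]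
    have hout' : ¬ t ∣ Nat.card (Cfsg.Out S) := by
      subst hp2
      exact out_tf4 hg hcF
    have hx2 : 2 ≤ 2 ^ m := Nat.le_self_pow (by omega) 2
    have hmul : mP (2 ^ m) * mM (2 ^ m) = Ph 12 (p ^ f₁) := by
      have h5 := mP_mul_mM hx2
      have h6 : (2 * ((2 ^ m : ℕ) : ℤ) ^ 2) = ((p ^ f₁ : ℕ) : ℤ) := by
        rw [hqm, ← q_TF]
        push_cast
        ring
      rw [h6, ← hm12] at h5
      exact_mod_cast h5
    have hrP : r ∣ Ph 12 (p ^ f₁) := by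
      have h5 : (r : ℤ) ∣ ((Ph 12 (p ^ f₁) : ℕ) : ℤ) := by
        rw [hm12]
        exact prim_dvd_12 hr
      exact Int.natCast_dvd_natCast.1 h5
    rw [← hmul] at hrP
    rcases hr.prime.dvd_mul.1 hrP with h5 | h5
    · have hb2 : Big S r (mP (2 ^ m)) 12 := (big_TF4_plus hF' hm hr.prime h5).congr φ.symm
      exact kw hout' hb2.card fun h6 => htph (by rw [← hmul]; exact h6.mul_right _)
    · have hb2 : Big S r (mM (2 ^ m)) 12 := (big_TF4_minus hF' hm hr.prime h5).congr φ.symm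
      exact kw hout' hb2.card fun h6 => htph (by rw [← hmul]; exact h6.mul_left _)

end Cfsg.Agent.H190.Spr
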