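import Cfsg.Agent.H682.TE6.Tor
import Cfsg.Agent.H765.KE.Ord

/-!
# The torus of class 12 of `E₆(q)` (after helper682; helper190, for S3938)

* `k3 q = (q² + q + 1) / (3, q - 1)`, prime to `30`;
* `bigE` : the primitive primes of class 12 are big with the number `Ph 12 q * k3 q`;
* `exists_s` : an element of order divisible by `Ph 12 q * k3 q`;
* `sylow_e6` : the Sylow `t`-subgroups are abelian, `7 ≤ t`, `t ∤ q`.
-/

set_option autoImplicit false

namespace Cfsg.Agent.H190.Spr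

open Cfsg Cfsg.Agent.OrdDiv Cfsg.Agent.H436 Cfsg.Agent.H56.Exc Cfsg.Agent.H563.KG Cfsg.Agent.H190.Odd
  Cfsg.Agent.H682.TE6

/-- `(q² + q + 1) / (3, q - 1)` -/
def k3 (q : ℕ) : ℕ := (q ^ 2 + q + 1) / Nat.gcd 3 (q - 1)

section

variable {q : ℕ}

theorem gcd3_eq (q : ℕ) : (Nat.gcd 3 (q - 1) = 3 ∧ 3 ∣ q - 1) ∨ (Nat.gcd 3 (q - 1) = 1 ∧ ¬ 3 ∣ q - 1) := by
  by_cases h : 3 ∣ q - 1
  · exact Or.inl ⟨Nat.gcd_eq_left h, h⟩
  · exact Or.inr ⟨(Nat.Prime.coprime_iff_not_dvd Nat.prime_three).2 h, h⟩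

theorem three_dvd_iff3 (hq : 1 ≤ q) : 3 ∣ q ^ 2 + q + 1 ↔ 3 ∣ q - 1 := by
  rw [← ZMod.natCast_eq_zero_iff, ← ZMod.natCast_eq_zero_iff, Nat.cast_sub hq]
  push_cast
  generalize (q : ZMod 3) = x
  revert x
  decide

theorem nine_not_dvd3 (q : ℕ) : ¬ 9 ∣ q ^ 2 + q + 1 := by
  rw [← ZMod.natCast_eq_zero_iff]
  push_cast
  generalize (q : ZMod 9) = x
  revert x
  decide

theorem k3_mul (hq : 1 ≤ q) : Nat.gcd 3 (q - 1) * k3 q = q ^ 2 + q + 1 := by
  apply Nat.mul_div_cancel'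
  rcases gcd3_eq q with ⟨h1, h2⟩ | ⟨h1, -⟩
  · rw [h1, three_dvd_iff3 hq]
    exact h2
  · rw [h1]
    exact one_dvd _

theorem k3_dvd (hq : 1 ≤ q) : k3 q ∣ q ^ 2 + q + 1 := Dvd.intro_left _ (k3_mul hq)

theorem not_three_dvd_k3 (hq : 1 ≤ q) : ¬ 3 ∣ k3 q := by
  intro h
  rcases gcd3_eq q with ⟨h1, h2⟩ | ⟨h1, h2⟩
  · apply nine_not_dvd3 q
    rw [← k3_mul hq, h1]
    exact mul_dvd_mul_left 3 h
  · exact h2 ((three_dvd_iff3 hq).1 (h.trans (k3_dvd hq)))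

theorem not_two_dvd_k3 (hq : 1 ≤ q) : ¬ 2 ∣ k3 q := by
  intro h
  have h1 := h.trans (k3_dvd hq)
  rw [← ZMod.natCast_eq_zero_iff] at h1
  push_cast at h1
  generalize (q : ZMod 2) = x at h1
  revert x
  decide

theorem not_five_dvd_k3 (hq : 1 ≤ q) : ¬ 5 ∣ k3 q := by
  intro h
  have h1 := h.trans (k3_dvd hq)
  rw [← ZMod.natCast_eq_zero_iff] at h1
  push_cast at h1
  generalize (q : ZMod 5) = x at h1
  revert x
  decide

theorem seven_le3 (hq : 1 ≤ q) {t : ℕ} (ht : t.Prime) (h : t ∣ k3 q) : 7 ≤ t := by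
  by_contra hcon
  have h2 := ht.two_le
  have h3 : t = 2 ∨ t = 3 ∨ t = 4 ∨ t = 5 ∨ t = 6 := by omega
  rcases h3 with rfl | rfl | rfl | rfl | rfl
  · exact not_two_dvd_k3 hq h
  · exact not_three_dvd_k3 hq h
  · norm_num at ht
  · exact not_five_dvd_k3 hq h
  · norm_num at ht

theorem k3_pos (hq : 1 ≤ q) : 0 < k3 q := Nat.pos_of_dvd_of_pos (k3_dvd hq) (by omega)

theorem k3_dvd_sub (hq : 1 ≤ q) : k3 q ∣ q ^ 3 - 1 := by
  have e1 : q ^ 3 - 1 = (q - 1) * (q ^ 2 + q + 1) := by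
    have : 1 ≤ q ^ 3 := Nat.one_le_pow _ _ hq
    zify [this, hq]
    ring
  rw [e1]
  exact (k3_dvd hq).mul_left _

/-- `Φ₁₂(q)` is prime to `k3 q` -/
theorem coprime_ph_k3 (hq : 1 ≤ q) : (Ph 12 q).Coprime (k3 q) := by
  rw [Nat.coprime_iff_gcd_eq_one]
  by_contra h
  obtain ⟨t, ht, htd⟩ := Nat.exists_prime_and_dvd h
  have h1 := htd.trans (Nat.gcd_dvd_left _ _)
  have h2 := (htd.trans (Nat.gcd_dvd_right _ _)).trans (k3_dvd_sub hq)
  have h3 := prim_of_ph hq ht h1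
  exact h3.not_dvd_sub (by norm_num) h2

theorem not_dvd_ph_of3 {t : ℕ} (ht : t.Prime) (hq : 1 ≤ q) (h : t ∣ k3 q) : ¬ t ∣ Ph 12 q := fun h1 => by
  have h2 := Nat.dvd_gcd h1 h
  rw [coprime_ph_k3 hq, Nat.dvd_one] at h2
  exact ht.one_lt.ne' h2

/-- the large primes of class 3 -/
theorem dvd_k3 (hq : 1 ≤ q) {w : ℕ} (hw : Prim q 3 w) (h5 : 5 ≤ w) : w ∣ k3 q := by
  have h1 : w ∣ q ^ 2 + q + 1 := by
    have e1 : q ^ 3 - 1 = (q - 1) * (q ^ 2 + q + 1) := by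
      have : 1 ≤ q ^ 3 := Nat.one_le_pow _ _ hq
      zify [this, hq]
      ring
    have h2 := hw.dvd dvd_rfl
    rw [e1] at h2
    rcases hw.prime.dvd_mul.1 h2 with h3 | h3
    · exfalso
      exact hw.not_dvd_sub (m := 1) (by norm_num) (by rwa [pow_one])
    · exact h3
  rw [← k3_mul hq] at h1
  rcases hw.prime.dvd_mul.1 h1 with h2 | h2
  · exfalso
    have := Nat.le_of_dvd (by norm_num) (h2.trans (Nat.gcd_dvd_left _ _))
    omega
  · exact h2

/-- **The prime `w₀`.** -/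
theorem exists_w {p f : ℕ} (hp : p.Prime) (hf : 1 ≤ f) :
    ∃ t, Prim (p ^ f) 3 t ∧ f < t ∧ 5 ≤ t ∧ (p ^ f = 2 → t = 7) ∧ (p ^ f = 3 → t = 13) := by
  by_cases h6 : p = 2 ∧ f = 2
  · obtain ⟨rfl, rfl⟩ := h6
    refine ⟨7, ⟨by norm_num, fun m => ?_, by norm_num⟩, by norm_num, by norm_num, by norm_num, by norm_num⟩
    have h1 : (7 ∣ (2 ^ 2) ^ m - 1) ↔ ((4 : ZMod 7) ^ m = 1) := by
      rw [← Nat.modEq_iff_dvd' (Nat.one_le_pow _ _ (by norm_num)), ← ZMod.natCast_eq_natCast_iff]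
      push_cast
      norm_num
      exact eq_comm
    rw [h1]
    constructor
    · intro h
      have h2 : orderOf (4 : ZMod 7) = 3 := by
        have := Fact.mk (by norm_num : Nat.Prime 3)
        exact orderOf_eq_prime (by decide) (by decide)
      rw [← h2]
      exact orderOf_dvd_of_pow_eq_one h
    · rintro ⟨j, rfl⟩
      rw [pow_mul]
      have : (4 : ZMod 7) ^ 3 = 1 := by decide
      rw [this, one_pow]
  · obtain ⟨t, ht⟩ := exists_prim (q := p) (e := f * 3) hp.two_le (by omega) (by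
      intro h
      exact h6 ⟨h.1, by omega⟩)
    have hlt : f * 3 < t := prim_lt ht (by omega)
    have ht3 : Prim (p ^ f) 3 t := Cfsg.Agent.H264.GN.prim_pow hf ht
    refine ⟨t, ht3, by omega, ?_, fun h => ?_, fun h => ?_⟩
    · by_contra hcon
      have h2 := ht.prime.two_le
      have h3 : f = 1 := by omega
      have h4 : t = 4 := by omega
      rw [h4] at ht
      exact absurd ht.prime (by norm_num)
    · rw [h] at ht3
      have h1 := ht3.dvd dvd_rfl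
      norm_num at h1
      exact (Nat.prime_dvd_prime_iff_eq ht.prime (by norm_num)).1 h1
    · rw [h] at ht3
      have h1 := ht3.dvd dvd_rfl
      norm_num at h1
      have h2 : t ∣ 2 * 13 := h1
      rcases ht.prime.dvd_mul.1 h2 with h3 | h3
      · have := Nat.le_of_dvd (by norm_num) h3
        omega
      · exact (Nat.prime_dvd_prime_iff_eq ht.prime (by norm_num)).1 h3

end

section

variable {F : Type} [Field F] [Fintype F] {q : ℕ}

/-- the primitive primes of class 12 -/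
theorem bigE (hK : Fintype.card F = q) {r : ℕ} (hr : Prim q 12 r) :
    Big ↥(Lie.chevE6.group F) r (Ph 12 q * k3 q) 12 := by
  have hq1 : 1 ≤ q := by rw [← hK]; exact Fintype.card_pos
  have hm12 : ((Ph 12 q * (q ^ 2 + q + 1) : ℕ) : ℤ) =
      (1 - (q : ℤ) ^ 2 + (q : ℤ) ^ 4) * (1 + (q : ℤ) + (q : ℤ) ^ 2) := by
    rw [Nat.cast_mul, cast_Ph12 _ hq1]
    push_cast
    ring
  have hb := big_E6_12 hK hm12 hr
  refine ⟨hb.prime, hb.cyc, fun x hx => ?_, hb.aut, hb.ndvd⟩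
  rcases gcd3_eq q with ⟨h1, h2⟩ | ⟨h1, -⟩
  · have h3 := (exact_e6_12 hK h2 hr hx).1
    have h4 : (q ^ 4 - q ^ 2 + 1) * (q ^ 2 + q + 1) = 3 * (Ph 12 q * k3 q) := by
      rw [← k3_mul hq1, h1]
      show (q ^ 4 - q ^ 2 + 1) * (3 * k3 q) = 3 * ((q ^ 4 - q ^ 2 + 1) * k3 q)
      ring
    rw [h4] at h3
    exact Nat.dvd_of_mul_dvd_mul_left (by norm_num) h3
  · have h3 := hb.card x hx
    rwa [← k3_mul hq1, h1, one_mul] at h3

/-- **The torus.** -/
theorem exists_s (hK : Fintype.card F = q) : ∃ s : ↥(Lie.chevE6.group F), Ph 12 q * k3 q ∣ orderOf s := by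
  have hq2 : 2 ≤ q := by rw [← hK]; exact Fintype.one_lt_card
  have hq1 : 1 ≤ q := by omega
  have hfin : Finite ↥(Lie.chevE6.group F) := inferInstance
  have hm12 : ((Ph 12 q * (q ^ 2 + q + 1) : ℕ) : ℤ) =
      (1 - (q : ℤ) ^ 2 + (q : ℤ) ^ 4) * (1 + (q : ℤ) + (q : ℤ) ^ 2) := by
    rw [Nat.cast_mul, cast_Ph12 _ hq1]
    push_cast
    ring
  obtain ⟨r, hr⟩ := exists_prim hq2 (show 3 ≤ 12 by norm_num) (by norm_num)
  obtain ⟨T12, c12', -, m12, -, -⟩ := Cfsg.Agent.H129.CycCard.card_E6_12 hK hm12 hr.prime (prim_dvd_12 hr)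
  obtain ⟨s, hs⟩ := c12'.exists_generator
  refine ⟨s, ?_⟩
  have h1 : orderOf (s : ↥(Lie.chevE6.group F)) = Nat.card ↥T12 := by
    rw [Subgroup.orderOf_coe]
    exact orderOf_eq_card_of_forall_mem_zpowers hs
  rw [h1]
  have h2 : Nat.gcd 3 (q - 1) * (Ph 12 q * k3 q) ∣ Nat.gcd 3 (q - 1) * Nat.card ↥T12 := by
    have e1 : Nat.gcd 3 (q - 1) * (Ph 12 q * k3 q) = Ph 12 q * (q ^ 2 + q + 1) := by
      rw [← k3_mul hq1]
      ring
    rw [e1]
    exact m12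
  exact Nat.dvd_of_mul_dvd_mul_left (Nat.gcd_pos_of_pos_left _ (by norm_num)) h2

open Cfsg.Agent.ChevalleyStructure.CoxeterGeomTypes Cfsg.Agent.H765.KE Cfsg.Agent.H795.Untw
  Cfsg.Agent.H129.TorusChar Cfsg.Agent.H129.TorusUntw Cfsg.Agent.BpExc Cfsg.Agent.BpExc.RowsUntw
  Cfsg.Agent.H795.RowsA in
/-- **The Sylow `t`-subgroups are abelian.** -/
theorem sylow_e6 (hK : Fintype.card F = q) {t : ℕ} [ht : Fact t.Prime] (h7 : 7 ≤ t)
    (htq : ¬ t ∣ q) (P : Sylow t ↥(Lie.chevE6.group F)) : IsMulCommutative (P : Subgroup ↥(Lie.chevE6.group F)) := by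
  have hfin : Finite ↥(Lie.chevE6.group F) := inferInstance
  obtain ⟨r, e, hr, hrF, hrk, he, hq, hk⟩ := exists_closure (F := F) rfl
  have htr : t ≠ r := by
    rintro rfl
    apply htq
    rw [← hK, hq]
    exact dvd_pow_self _ he.ne'
  have hset := setup_untw e6T hk (algebraMap F (AlgebraicClosure F)) he hq invC_E6 three_ne_zero
    (Or.inr Nat.prime_three) (p := t) (fun h => by
      have := Nat.le_of_dvd (by norm_num) h
      omega)
  refine sylow_comm e6T hk htr ?_ hset.inj P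
  have h0 : Nat.card CoxeterMatrix.E₆.Group = 51840 :=
    Cfsg.Agent.S1093.result (⟨6, CoxeterMatrix.E₆⟩, 51840) (by simp)
  rw [h0]
  intro h1
  have h2 : t ∣ 30 := ht.out.dvd_of_dvd_pow (h1.trans (by decide : 51840 ∣ 30 ^ 7))
  have h3 := Nat.le_of_dvd (by norm_num) h2
  have h4 := ht.out
  interval_cases t <;> first | exact absurd h2 (by decide) | exact absurd h4 (by norm_num)

end

end Cfsg.Agent.H190.Spr
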